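import Groth.Agent.L11.TorsionFp.Table
import Groth.Agent.L11.NumOrth.Chi
import Groth.Agent.L11.NumOrth.Proper
import Groth.Agent.L22.GG.FlatDescent
import Groth.Agent.L12.GenusZero.Apps
import Groth.Agent.L21.RR.BaseChange
import Groth.Agent.S9710
import Groth.Agent.S12111

/-!
# Numerically trivial modules on a projective scheme over a finite field are torsion
-/

set_option autoImplicit false
set_option linter.style.haveILetI false
set_option linter.unusedSectionVars false
set_option backward.isDefEq.respectTransparency false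
set_option backward.isDefEq.respectTransparency.types false

universe u

open CategoryTheory CategoryTheory.Limits AlgebraicGeometry TopologicalSpace Opposite

noncomputable section

namespace Groth.L11.TorsionFp

open Groth.L11.NumOrth Groth.L22.Nef Groth.L22.Inter
open Groth.L00.Tensor (tensorIso tensorAssoc tensorComm tensorUnitRight tensorUnitLeft tensorPowAdd tensorPowMul
  tensorPowTensor tensorPowIso tensorMiddleFour tensorPowOne tensorPowUnit)

/-- Homomorphisms out of the structure sheaf are degree zero classes. -/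
def homEquiv {X : Scheme.{u}} (M : X.Modules) : (Coh.structureModule X ⟶ M) ≃ Coh.HH X M 0 :=
  (Equiv.mk Groth.L18.GenLoc.secOf (Groth.L16.homOfSection M) Groth.L18.GenLoc.homOfSection_secOf
    Groth.L18.GenLoc.secOf_homOfSection).trans (Groth.L21.RR.e0 M).symm.toEquiv

/-- Twisting modules are powers of the hyperplane module. -/
theorem nonempty_OX_pow {k : Type u} [Field k] {n : ℕ} {X : Scheme.{u}} (i : X ⟶ CohB1.ProjSpace n k)
    [IsClosedImmersion i] : ∀ m : ℕ, Nonempty (OX i (m : ℤ) ≅ CohB1.tensorPow (OX i 1) m)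
  | 0 => nonempty_OX_zero i
  | m + 1 => by
    obtain ⟨e⟩ := nonempty_OX_pow i m
    obtain ⟨a⟩ := nonempty_OX_add i (a := (m : ℤ)) (b := 1) (c := ((m + 1 : ℕ) : ℤ)) (by push_cast; ring)
    exact ⟨a.symm ≪≫ tensorIso e (Iso.refl _)⟩

theorem nt_of_iso {k : Type u} [Field k] {X : Scheme.{u}} [X.Over (Spec (CommRingCat.of k))]
    [IsProper (X ↘ Spec (CommRingCat.of k))] {M N : X.Modules} (e : M ≅ N) (h : NT k M) : NT k N := by
  have hN := Groth.L18.Ample.isInvertible_of_iso e h.1
  refine ⟨hN, (numZero_iff k hN).2 fun y hy => ?_⟩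
  rw [← altT_congr k (fun _ => ⟨e⟩)]
  exact h.deg hy

variable (K k : Type u) [Field K] [Finite K] [Field k] [IsAlgClosed k] [Algebra K k]
  {W : Scheme.{u}} [W.Over (Spec (CommRingCat.of K))] [IsProper (W ↘ Spec (CommRingCat.of K))]

/-- Finiteness of the homomorphisms out of the structure sheaf, with their number. -/
theorem finite_hom {M : W.Modules} (hM : Coh.IsCoh M) :
    Finite (Coh.structureModule W ⟶ M) ∧
      Nat.card (Coh.structureModule W ⟶ M) = Nat.card K ^ Module.finrank K (Coh.HH W M 0) := by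
  haveI := Groth.L16.ProperFinite.finite_HH K hM 0
  haveI : Finite (Coh.HH W M 0) := Module.finite_of_finite K
  exact ⟨Finite.of_equiv _ (homEquiv M).symm, (Nat.card_congr (homEquiv M)).trans Module.natCard_eq_pow_finrank⟩

/-- Numerically trivial modules on a projective scheme over a finite field are torsion. -/
theorem torsion_finite (hA : ∃ A : W.Modules, CohB1.IsAmple A) {L : W.Modules} (hL : PicF.IsInvertible L)
    (hNT : NT k ((Scheme.Modules.pullback (projE K k W)).obj L)) :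
    ∃ d : ℕ, 0 < d ∧ Nonempty (CohB1.tensorPow L d ≅ Coh.structureModule W) := by
  classical
  obtain ⟨A, hA⟩ := hA
  haveI := Groth.L21.RR.isNoetherian_of_proper (X := W) K
  haveI := Groth.L21.RR.isNoetherian_of_proper (X := XE K k W) k
  let g := projE K k W
  have sq : IsPullback g (XE K k W ↘ Spec (CommRingCat.of k)) (W ↘ Spec (CommRingCat.of K))
      (Spec.map (CommRingCat.ofHom (algebraMap K k))) := IsPullback.of_hasPullback _ _
  haveI : IsAffineHom g := MorphismProperty.of_isPullback sq.flip (isAffineHom_of_isAffine _)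
  let B := (Scheme.Modules.pullback g).obj A
  have hB : CohB1.IsAmple B := Groth.L18.Ample.isAmple_pullback_of_isAffineHom g hA
  obtain ⟨d, -, hd⟩ := Groth.Agent.S9710.result (XE K k W ↘ Spec (CommRingCat.of k)) B hB
  obtain ⟨n, i, hi, hiq, ⟨τ⟩⟩ := Groth.L12.GenusZero.exists_closedImmersion_projSpace (hd d le_rfl)
  haveI := hi
  obtain ⟨D, hD, -⟩ := exists_nat_dim_le k k (X := XE K k W)
  have hdim : topologicalKrullDim (CohB1.support (Coh.structureModule (XE K k W))) + 1 ≤ ((D + 1 : ℕ) : WithBot ℕ∞) :=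
    dim_succ_iff.2 (Topology.IsInducing.subtypeVal.topologicalKrullDim_le.trans hD)
  have hOc := Groth.L16.CohClosedPush.isCoh_structure (X := XE K k W)
  obtain ⟨m₀, hm₀⟩ := (chi_reg_bdd k i hiq (D + 1)).2.1 _ hOc hdim
  let m : ℕ := m₀.toNat
  obtain ⟨B₀, hB₀⟩ := (chi_reg_bdd k i hiq (D + 1)).2.2 _ hOc hdim (m : ℤ)
  obtain ⟨eC⟩ := nonempty_OX_pow i m
  let C := CohB1.tensorPow A (d * m)
  have hCinv : PicF.IsInvertible C := Groth.L18.Ample.isInvertible_tensorPow hA.1 _
  have eg : (Scheme.Modules.pullback g).obj C ≅ OX i (m : ℤ) :=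
    Groth.L18.Ample.pullPow g A (d * m) ≪≫ (tensorPowMul B d m).symm ≪≫ tensorPowIso τ.symm m ≪≫ eC.symm
  -- twists by `C` of modules becoming numerically trivial
  have good : ∀ N : W.Modules, PicF.IsInvertible N → NT k ((Scheme.Modules.pullback g).obj N) →
      Curv2.IsGloballyGenerated (CohB1.tensorMod N C) ∧
        Module.finrank K (Coh.HH W (CohB1.tensorMod N C) 0) ≤ B₀ := by
    intro N hN hN'
    let N' := (Scheme.Modules.pullback g).obj N
    let M' := Pic13.twistOn k i (CohB1.tensorMod (Coh.structureModule (XE K k W)) N') (m : ℤ)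
    have e : (Scheme.Modules.pullback g).obj (CohB1.tensorMod N C) ≅ M' :=
      (Groth.L29.DC.PullTensor.pullTensor g N C).symm ≪≫ tensorIso (tensorUnitLeft N').symm eg
    have hreg := hm₀ N' hN'
    have hgg : Curv2.IsGloballyGenerated M' :=
      (Groth.Agent.S12111.result k n i _ (Groth.L03.Euler.isCoh_tensor hN'.1 hOc) m₀ hreg (m : ℤ)
        (Int.self_le_toNat m₀)).2
    have hNC : PicF.IsInvertible (CohB1.tensorMod N C) := Groth.L18.GenLoc.isInvertible_tensor hN hCinv
    refine ⟨(Groth.L22.GG.FlatDescent.iff_baseChange (A' := k) (W ↘ Spec (CommRingCat.of K)) _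
      (Groth.L21.Extend.isQCoh_of_isInvertible hNC)).2 (Groth.L18.Ample.isGloballyGenerated_of_iso e.symm hgg), ?_⟩
    have h1 := Groth.L21.RR.h_pullback g sq (Groth.L16.ProperFinite.isCoh_of_isInvertible hNC) 0
    have h2 := hB₀ N' hN'
    rw [← Groth.L22.Big.h0_iso k e, Groth.L22.Big.h0_def] at h2
    exact h1.symm.trans_le h2
  obtain ⟨Q, hQ, ⟨eQ⟩⟩ := Groth.L08.Cube.exists_inverse hL
  have hNQ : NT k ((Scheme.Modules.pullback g).obj Q) := by
    obtain ⟨Q', hQ', ⟨e'⟩⟩ := hNT.exists_inverse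
    have eu : CohB1.tensorMod ((Scheme.Modules.pullback g).obj L) ((Scheme.Modules.pullback g).obj Q) ≅
        Coh.structureModule (XE K k W) :=
      Groth.L29.DC.PullTensor.pullTensor g L Q ≪≫ (Scheme.Modules.pullback g).mapIso eQ ≪≫
        Groth.L29.LocFree.pullbackUnitIso g
    have eq : Q' ≅ (Scheme.Modules.pullback g).obj Q :=
      (tensorUnitRight _).symm ≪≫ tensorIso (Iso.refl _) eu.symm ≪≫ (tensorAssoc _ _ _).symm ≪≫
        tensorIso (tensorComm _ _ ≪≫ e') (Iso.refl _) ≪≫ tensorUnitLeft _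
    exact nt_of_iso eq hQ'
  have hpow : ∀ {N : W.Modules}, NT k ((Scheme.Modules.pullback g).obj N) → ∀ a : ℕ,
      NT k ((Scheme.Modules.pullback g).obj (CohB1.tensorPow N a)) := fun {N} h a =>
    nt_of_iso (Groth.L18.Ample.pullPow g N a).symm (h.pow a)
  let P := CohB1.tensorMod C C
  let H := Coh.structureModule W ⟶ P
  haveI : Finite H := (finite_hom K (Groth.L16.ProperFinite.isCoh_of_isInvertible
    (Groth.L18.GenLoc.isInvertible_tensor hCinv hCinv))).1
  let N₀ := Nat.card K ^ B₀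
  have key : ∀ a : ℕ, ∃ (T : Σ s t : Fin (N₀ + 1), Fin s → Fin t → H),
      Nonempty (CohB1.tensorMod (CohB1.tensorPow L a) C ≅
        image (tableHom P fun (x : ULift.{u} (Fin T.1)) (y : ULift.{u} (Fin T.2.1)) => T.2.2 x.down y.down)) := by
    intro a
    let M := CohB1.tensorMod (CohB1.tensorPow L a) C
    let N := CohB1.tensorMod (CohB1.tensorPow Q a) C
    have hLa := Groth.L18.Ample.isInvertible_tensorPow hL a
    have hQa := Groth.L18.Ample.isInvertible_tensorPow hQ a
    have hM : PicF.IsInvertible M := Groth.L18.GenLoc.isInvertible_tensor hLa hCinv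
    have hN : PicF.IsInvertible N := Groth.L18.GenLoc.isInvertible_tensor hQa hCinv
    obtain ⟨gM, bM⟩ := good _ hLa (hpow hNT a)
    obtain ⟨gN, bN⟩ := good _ hQa (hpow hNQ a)
    obtain ⟨fM, cM⟩ := finite_hom K (Groth.L16.ProperFinite.isCoh_of_isInvertible hM)
    obtain ⟨fN, cN⟩ := finite_hom K (Groth.L16.ProperFinite.isCoh_of_isInvertible hN)
    have hs : Nat.card (Coh.structureModule W ⟶ M) < N₀ + 1 :=
      Nat.lt_succ_of_le (cM.trans_le (Nat.pow_le_pow_right Nat.card_pos bM))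
    have ht : Nat.card (Coh.structureModule W ⟶ N) < N₀ + 1 :=
      Nat.lt_succ_of_le (cN.trans_le (Nat.pow_le_pow_right Nat.card_pos bN))
    let φ := (Finite.equivFin (Coh.structureModule W ⟶ M)).symm
    let ψ := (Finite.equivFin (Coh.structureModule W ⟶ N)).symm
    have c : CohB1.tensorMod M N ≅ P := tensorMiddleFour _ _ _ _ ≪≫
      tensorIso ((tensorPowTensor L Q a).symm ≪≫ tensorPowIso eQ a ≪≫ tensorPowUnit W a) (Iso.refl _) ≪≫
      tensorUnitLeft _
    exact ⟨⟨⟨_, hs⟩, ⟨_, ht⟩, fun x y => φ x ≫ Groth.L21.RR.mulS M (ψ y) ≫ c.hom⟩,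
      exists_iso_image hM hN c (fun x : ULift.{u} (Fin (Nat.card (Coh.structureModule W ⟶ M))) => φ x.down)
        (gen_of_gg hM gM _ fun f => ⟨⟨φ.symm f⟩, φ.apply_symm_apply f⟩)
        (fun y : ULift.{u} (Fin (Nat.card (Coh.structureModule W ⟶ N))) => ψ y.down)
        (gen_of_gg hN gN _ fun f => ⟨⟨ψ.symm f⟩, ψ.apply_symm_apply f⟩)⟩
  choose T hT using key
  obtain ⟨a, b, hne, hab⟩ := Finite.exists_ne_map_eq_of_infinite T
  wlog hlt : a < b generalizing a b
  · exact this b a hne.symm hab.symm (lt_of_le_of_ne (not_lt.1 hlt) hne.symm)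
  have heq : Nonempty (CohB1.tensorMod (CohB1.tensorPow L a) C ≅ CohB1.tensorMod (CohB1.tensorPow L b) C) := by
    have hb := hT b
    rw [← hab] at hb
    exact ⟨(hT a).some ≪≫ hb.some.symm⟩
  obtain ⟨e⟩ := heq
  obtain ⟨C', hC', ⟨eC'⟩⟩ := Groth.L08.Cube.exists_inverse hCinv
  obtain ⟨R, hR, ⟨eR⟩⟩ := Groth.L08.Cube.exists_inverse (Groth.L18.Ample.isInvertible_tensorPow hL a)
  have e1 : CohB1.tensorPow L a ≅ CohB1.tensorPow L b :=
    (tensorUnitRight _).symm ≪≫ tensorIso (Iso.refl _) eC'.symm ≪≫ (tensorAssoc _ _ _).symm ≪≫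
      tensorIso e (Iso.refl _) ≪≫ tensorAssoc _ _ _ ≪≫ tensorIso (Iso.refl _) eC' ≪≫ tensorUnitRight _
  refine ⟨b - a, Nat.sub_pos_of_lt hlt, ⟨?_⟩⟩
  exact (tensorUnitLeft _).symm ≪≫ tensorIso (eR.symm ≪≫ tensorComm _ _) (Iso.refl _) ≪≫ tensorAssoc _ _ _ ≪≫
    tensorIso (Iso.refl _) (tensorPowAdd L a (b - a) ≪≫ eqToIso (by rw [Nat.add_sub_cancel' hlt.le]) ≪≫ e1.symm) ≪≫
    tensorComm _ _ ≪≫ eR

end Groth.L11.TorsionFp
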