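import Groth.Agent.L19.Limit.FiniteExt
import Groth.Agent.L16.ProjSpace.BaseChange
import Groth.Agent.L02.Canon.Pushforward
import Groth.Agent.L21.Bundle.Lines
import Groth.Agent.L11.NumOrth.NefBC
import Groth.Agent.L12.GenusZero.Apps
import Groth.Agent.L15.Ref.FreeLocus
import Groth.Agent.S9710
import Groth.Agent.S9220
import Groth.Agent.S4788
import Mathlib.Algebra.Algebra.ZMod
import Mathlib.Algebra.CharP.Algebra

/-!
# Projective schemes and line bundles over an algebraic closure of a finite field have finite models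
-/

set_option autoImplicit false
set_option linter.style.haveILetI false
set_option linter.unusedSectionVars false
set_option backward.isDefEq.respectTransparency false
set_option backward.isDefEq.respectTransparency.types false

universe u

open CategoryTheory CategoryTheory.Limits AlgebraicGeometry TopologicalSpace Opposite

noncomputable section

namespace Groth.L11.TorsionFp

variable {k : Type u} [Field k]

/-- Finitely generated subalgebras consisting of roots of unity and zero are finite fields. -/
theorem finite_field_of_fg (halg : ∀ x : k, IsIntegral ℤ x) (K : Type u) [Field K] [Finite K] [Algebra K k]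
    (S : Subalgebra K k) (hS : S.FG) : IsField S ∧ Finite S := by
  haveI : Algebra.FiniteType K S := (Subalgebra.fg_iff_finiteType _).mp hS
  haveI : Algebra.IsIntegral K S := ⟨fun x =>
    (isIntegral_algHom_iff S.val Subtype.val_injective).1 ((halg (x : k)).tower_top)⟩
  haveI : Module.Finite K S := Algebra.IsIntegral.finite
  haveI : Finite S := Module.finite_of_finite K
  exact ⟨Finite.isField_of_domain S, inferInstance⟩

/-- A closed subscheme pulled back from a stage is the base change of the subscheme of the stage. -/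
theorem exists_isPullback_subscheme {W P' P : Scheme.{u}} (j : W ⟶ P') [IsClosedImmersion j] (π : P' ⟶ P)
    (J : P.IdealSheafData) (h : J.comap π = j.ker) :
    ∃ g : W ⟶ J.subscheme, IsPullback g j J.subschemeι π := by
  have aux : ∀ {I I' : Scheme.IdealSheafData P'} (h : I = I'),
      (eqToIso (congrArg Scheme.IdealSheafData.subscheme h)).hom ≫ I'.subschemeι = I.subschemeι := by
    rintro I _ rfl
    simp
  let e : W ≅ pullback π J.subschemeι :=
    asIso j.toImage ≪≫ eqToIso (congrArg Scheme.IdealSheafData.subscheme h.symm) ≪≫ J.comapIso π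
  have he : e.hom ≫ pullback.fst _ _ = j := by
    show (j.toImage ≫ _ ≫ (J.comapIso π).hom) ≫ pullback.fst _ _ = j
    rw [Category.assoc, Category.assoc, Scheme.IdealSheafData.comapIso_hom_fst, aux h.symm]
    exact j.toImage_imageι
  exact ⟨e.hom ≫ pullback.snd _ _,
    (IsPullback.of_hasPullback π J.subschemeι).flip.of_iso e.symm (Iso.refl _) (Iso.refl _) (Iso.refl _)
      (by simp) (by simp [← he]) (by simp) (by simp)⟩

open L02.ConsP.FGA Groth.L19.Limit in
/-- A closed subscheme of projective space has a model over a finite field. -/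
theorem exists_scheme_model [IsAlgClosed k] (halg : ∀ x : k, IsIntegral ℤ x) (k₀ : Type u) [Field k₀] [Finite k₀]
    [Algebra k₀ k] {W : Scheme.{u}} [W.Over (Spec (CommRingCat.of k))]
    [IsProper (W ↘ Spec (CommRingCat.of k))] (hA : ∃ A : W.Modules, CohB1.IsAmple A) :
    ∃ (K : Type u) (_ : Field K) (_ : Finite K) (_ : Algebra K k) (W₀ : Scheme.{u})
      (_ : W₀.Over (Spec (CommRingCat.of K))) (_ : IsProper (W₀ ↘ Spec (CommRingCat.of K))) (g : W ⟶ W₀),
      (∃ A : W₀.Modules, CohB1.IsAmple A) ∧
      IsPullback g (W ↘ Spec (CommRingCat.of k)) (W₀ ↘ Spec (CommRingCat.of K))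
        (Spec.map (CommRingCat.ofHom (algebraMap K k))) := by
  obtain ⟨A, hA⟩ := hA
  obtain ⟨d, -, hd⟩ := Groth.Agent.S9710.result (W ↘ Spec (CommRingCat.of k)) A hA
  obtain ⟨N, i, hi, hiq, -⟩ := Groth.L12.GenusZero.exists_closedImmersion_projSpace (hd d le_rfl)
  haveI := hi
  let p := CohB1.ProjSpace.toSpec N k₀
  let D := specDiagram k₀ k
  let c := specCone k₀ k
  let E := baseDiagram p (fgStr k) (fgStr_map k)
  let T := Spec.map (CommRingCat.ofHom (algebraMap k₀ k))
  let cE := baseCone (c := c) p (fgStr k) (fgStr_map k) T (fgStr_π k)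
  have hsqN := Groth.L16.ProjSpace.isPullback_map N (algebraMap k₀ k)
  let θ : CohB1.ProjSpace N k ≅ pullback p T := hsqN.isoPullback
  haveI : ∀ {a b} (f : a ⟶ b), IsAffineHom (E.map f) := fun f =>
    isAffineHom_baseDiagram_map p (fgStr k) (fgStr_map k) f
  haveI : ∀ a, CompactSpace (E.obj a) := fun a =>
    haveI : CompactSpace (D.obj a) := inferInstanceAs (CompactSpace (Spec _))
    haveI : QuasiCompact (pullback.snd p (fgStr k a)) := MorphismProperty.pullback_snd _ _ inferInstance
    QuasiCompact.compactSpace_of_compactSpace (pullback.snd p (fgStr k a))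
  haveI : ∀ a, QuasiSeparatedSpace (E.obj a) := fun a =>
    haveI : QuasiSeparatedSpace (D.obj a) := inferInstanceAs (QuasiSeparatedSpace (Spec _))
    haveI : QuasiSeparated (pullback.snd p (fgStr k a)) := MorphismProperty.pullback_snd _ _ inferInstance
    quasiSeparatedSpace_of_quasiSeparated (pullback.snd p (fgStr k a))
  let j : W ⟶ cE.pt := i ≫ θ.hom
  haveI : IsClosedImmersion j := inferInstanceAs (IsClosedImmersion (i ≫ θ.hom))
  haveI : LocallyOfFiniteType (pullback.snd p T) := MorphismProperty.pullback_snd _ _ inferInstance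
  haveI : IsLocallyNoetherian cE.pt :=
    LocallyOfFiniteType.isLocallyNoetherian (show cE.pt ⟶ Spec (CommRingCat.of k) from pullback.snd p T)
  obtain ⟨a, J, -, hJ⟩ := Groth.Agent.S9220.result E cE (isLimitBaseCone p _ _ _ _ (isLimitSpecCone k₀ k)) j.ker
    fun U => by
      haveI := IsLocallyNoetherian.component_noetherian U
      exact IsNoetherian.noetherian _
  obtain ⟨hfield, hfin⟩ := finite_field_of_fg halg k₀ a.unop.1 a.unop.2
  letI : Field a.unop.1 := hfield.toField
  let K : Type u := a.unop.1
  haveI : Finite K := hfin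
  let qa : E.obj a ⟶ Spec (CommRingCat.of K) := pullback.snd p (fgStr k a)
  haveI : IsProper qa := MorphismProperty.pullback_snd _ _ inferInstance
  letI : J.subscheme.Over (Spec (CommRingCat.of K)) := ⟨J.subschemeι ≫ qa⟩
  haveI : IsProper (J.subscheme ↘ Spec (CommRingCat.of K)) := inferInstanceAs (IsProper (J.subschemeι ≫ qa))
  obtain ⟨g, s2⟩ := exists_isPullback_subscheme j (cE.π.app a) J hJ
  refine ⟨K, inferInstance, inferInstance, inferInstance, J.subscheme, inferInstance, inferInstance, g, ?_, ?_⟩
  · let O := (Scheme.Modules.pullback (pullback.fst p (fgStr k a))).obj (Groth.L18.PUP.O1 N k₀)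
    haveI : IsAffineHom (pullback.fst p (fgStr k a)) :=
      MorphismProperty.pullback_fst _ _ (isAffineHom_of_isAffine _)
    have hO : CohB1.IsAmple O :=
      Groth.L18.Ample.isAmple_pullback_of_isAffineHom _ (Groth.L22.VeryAmple.isAmple_O1 N k₀)
    exact ⟨_, Groth.L18.Ample.isAmple_pullback_of_isAffineHom J.subschemeι hO⟩
  · have s1 := isPullback_baseCone (c := c) p (fgStr k) (fgStr_map k) T (fgStr_π k) a
    have s3 := s2.paste_vert s1
    have hw : j ≫ pullback.snd p T = W ↘ Spec (CommRingCat.of k) := by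
      show (i ≫ θ.hom) ≫ pullback.snd p T = _
      rw [Category.assoc, hsqN.isoPullback_hom_snd, hiq]
    rw [hw] at s3
    exact s3

open L02.ConsP.FGA Groth.L19.Limit in
/-- An invertible module on a scheme with a finite model has a finite model. -/
theorem exists_module_model (halg : ∀ x : k, IsIntegral ℤ x) {K : Type u} [Field K] [Finite K] [Algebra K k]
    {W W₀ : Scheme.{u}} [W.Over (Spec (CommRingCat.of k))] [W₀.Over (Spec (CommRingCat.of K))]
    [IsProper (W₀ ↘ Spec (CommRingCat.of K))] {g : W ⟶ W₀}
    (sq : IsPullback g (W ↘ Spec (CommRingCat.of k)) (W₀ ↘ Spec (CommRingCat.of K))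
      (Spec.map (CommRingCat.ofHom (algebraMap K k))))
    (hA : ∃ A : W₀.Modules, CohB1.IsAmple A) {L : W.Modules} (hL : PicF.IsInvertible L) :
    ∃ (K' : Type u) (_ : Field K') (_ : Finite K') (_ : Algebra K' k) (W' : Scheme.{u})
      (_ : W'.Over (Spec (CommRingCat.of K'))) (_ : IsProper (W' ↘ Spec (CommRingCat.of K'))) (g' : W ⟶ W'),
      (∃ A : W'.Modules, CohB1.IsAmple A) ∧
      IsPullback g' (W ↘ Spec (CommRingCat.of k)) (W' ↘ Spec (CommRingCat.of K'))
        (Spec.map (CommRingCat.ofHom (algebraMap K' k))) ∧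
      ∃ L' : W'.Modules, PicF.IsInvertible L' ∧ Nonempty ((Scheme.Modules.pullback g').obj L' ≅ L) := by
  let p := W₀ ↘ Spec (CommRingCat.of K)
  let D := specDiagram K k
  let c := specCone K k
  let E := baseDiagram p (fgStr k) (fgStr_map k)
  let T := Spec.map (CommRingCat.ofHom (algebraMap K k))
  let cE := baseCone (c := c) p (fgStr k) (fgStr_map k) T (fgStr_π k)
  haveI : ∀ {a b} (f : a ⟶ b), IsAffineHom (E.map f) := fun f =>
    isAffineHom_baseDiagram_map p (fgStr k) (fgStr_map k) f
  let a₀ : (FG K k)ᵒᵖ := op ⟨⊥, Subalgebra.fg_bot⟩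
  haveI : CompactSpace (D.obj a₀) := inferInstanceAs (CompactSpace (Spec _))
  haveI : QuasiSeparatedSpace (D.obj a₀) := inferInstanceAs (QuasiSeparatedSpace (Spec _))
  haveI : QuasiCompact (pullback.snd p (fgStr k a₀)) := MorphismProperty.pullback_snd _ _ inferInstance
  haveI : QuasiSeparated (pullback.snd p (fgStr k a₀)) := MorphismProperty.pullback_snd _ _ inferInstance
  haveI : CompactSpace (E.obj a₀) := QuasiCompact.compactSpace_of_compactSpace (pullback.snd p (fgStr k a₀))
  haveI : QuasiSeparatedSpace (E.obj a₀) :=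
    quasiSeparatedSpace_of_quasiSeparated (pullback.snd p (fgStr k a₀))
  let θ : W ≅ cE.pt := sq.isoPullback
  let F := (Scheme.Modules.pullback θ.inv).obj L
  have hF : PicF.IsInvertible F := Groth.L18.Ample.isInvertible_pullback θ.inv hL
  haveI := Groth.L21.Extend.isQCoh_of_isInvertible hF
  haveI : LocallyOfFiniteType (pullback.snd p T) := MorphismProperty.pullback_snd _ _ inferInstance
  haveI : IsLocallyNoetherian cE.pt :=
    LocallyOfFiniteType.isLocallyNoetherian (show cE.pt ⟶ Spec (CommRingCat.of k) from pullback.snd p T)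
  obtain ⟨a, -, Fa, hFa, -, ⟨eF⟩⟩ := Groth.Agent.S4788.result E cE
    (isLimitBaseCone p _ _ _ _ (isLimitSpecCone K k)) a₀ F
    (Groth.L15.Ref.isFP_of_isCoh (Groth.L16.ProperFinite.isCoh_of_isInvertible hF))
  obtain ⟨hfield, hfin⟩ := finite_field_of_fg halg K a.unop.1 a.unop.2
  letI : Field a.unop.1 := hfield.toField
  let K' : Type u := a.unop.1
  haveI : Finite K' := hfin
  letI : (E.obj a).Over (Spec (CommRingCat.of K')) := ⟨pullback.snd p (fgStr k a)⟩
  haveI : IsProper (E.obj a ↘ Spec (CommRingCat.of K')) := MorphismProperty.pullback_snd _ _ inferInstance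
  have s1 : IsPullback (cE.π.app a) (pullback.snd p T) (E.obj a ↘ Spec (CommRingCat.of K'))
      (Spec.map (CommRingCat.ofHom (algebraMap K' k))) :=
    isPullback_baseCone (c := c) p (fgStr k) (fgStr_map k) T (fgStr_π k) a
  haveI : Surjective (Spec.map (CommRingCat.ofHom (algebraMap K' k))) :=
    ⟨fun q => ⟨(IsLocalRing.closedPoint k : PrimeSpectrum k), Subsingleton.elim (α := PrimeSpectrum K') _ _⟩⟩
  haveI : Flat (Spec.map (CommRingCat.ofHom (algebraMap K' k))) := by
    rw [HasRingHomProperty.Spec_iff (P := @Flat)]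
    exact RingHom.flat_algebraMap_iff.2 inferInstance
  haveI : Flat (cE.π.app a) := MorphismProperty.of_isPullback s1.flip inferInstance
  haveI : Surjective (cE.π.app a) := MorphismProperty.of_isPullback (P := @Surjective) s1.flip inferInstance
  haveI : QuasiCompact (cE.π.app a) := MorphismProperty.of_isPullback (P := @QuasiCompact) s1.flip inferInstance
  haveI := hFa
  have hinv : PicF.IsInvertible Fa := Groth.L21.Bundle.isInvertible_of_rank
    (Groth.L02.Canon.isFinLocFreeOfRank_one_of_pullback (cE.π.app a) Fa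
      (Groth.L18.Ample.isInvertible_of_iso eF.symm hF))
  refine ⟨K', inferInstance, inferInstance, inferInstance, E.obj a, inferInstance, inferInstance,
    θ.hom ≫ cE.π.app a, ?_, ?_, Fa, hinv, ⟨?_⟩⟩
  · obtain ⟨A, hA⟩ := hA
    haveI : IsAffineHom (pullback.fst p (fgStr k a)) :=
      MorphismProperty.pullback_fst _ _ (isAffineHom_of_isAffine _)
    exact ⟨_, Groth.L18.Ample.isAmple_pullback_of_isAffineHom (pullback.fst p (fgStr k a)) hA⟩
  · exact s1.of_iso θ.symm (Iso.refl _) (Iso.refl _) (Iso.refl _) (by simp) (by rw [Iso.symm_hom, Iso.refl_hom, Category.comp_id]; exact sq.isoPullback_inv_snd.symm) (by simp; rfl) (by simp)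
  · exact ((Scheme.Modules.pullbackComp θ.hom (cE.π.app a)).app Fa).symm ≪≫
      (Scheme.Modules.pullback θ.hom).mapIso eF ≪≫ (Scheme.Modules.pullbackComp θ.hom θ.inv).app L ≪≫
      (Scheme.Modules.pullbackCongr θ.hom_inv_id).app L ≪≫ (Scheme.Modules.pullbackId W).app L

end Groth.L11.TorsionFp
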