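import Groth.Agent.L11.TorsionFp.Proj
import Groth.Agent.L05.PtSeq.Trans
import Groth.Agent.L16.Chow.Dense
import Groth.Agent.L25.SplitSub.Normal
import Groth.Agent.L21.Mero.IsoFrames
import Groth.Agent.L18.CounitGen
import Groth.Agent.S5683
import Groth.Agent.L21.RR.PicFieldExt
import Mathlib.FieldTheory.Finite.Basic
import Groth.Agent.L04.SupportSh.Components

/-!
# Numerically trivial modules on normal proper schemes over an algebraic closure of a finite field
-/

set_option autoImplicit false
set_option linter.style.haveILetI false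
set_option linter.unusedSectionVars false
set_option backward.isDefEq.respectTransparency false
set_option backward.isDefEq.respectTransparency.types false

universe u

open CategoryTheory CategoryTheory.Limits AlgebraicGeometry TopologicalSpace Opposite

noncomputable section

namespace Groth.L11.TorsionFp

open Groth.L11.NumOrth Groth.L22.Nef Groth.L22.Inter
open Groth.L18.Frame (rs IsFrame rs_rs rs_self)

/-- Trivialisations on the members of a disjoint open cover glue. -/
theorem nonempty_iso_of_disjoint {X : Scheme.{u}} {L : X.Modules} {ι : Type u} (U : ι → X.Opens)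
    (hU : ∀ x : X, ∃ i, x ∈ U i) (hd : ∀ i j, i ≠ j → U i ⊓ U j = ⊥)
    (h : ∀ i, Nonempty ((Scheme.Modules.pullback (U i).ι).obj L ≅ Coh.structureModule (U i))) :
    Nonempty (L ≅ Coh.structureModule X) := by
  have hfr : ∀ i, ∃ σ : Γ(L, U i), IsFrame L (U i) σ := by
    intro i
    obtain ⟨e⟩ := h i
    let e₁ : Coh.structureModule (U i) ≅ L.restrict (U i).ι :=
      e.symm ≪≫ ((Scheme.Modules.restrictFunctorIsoPullback (U i).ι).app L).symm
    have h1 := Groth.L19.ProjBdl.isFrame_of_iso e₁ (Groth.L21.RR.isFrame_oneSec (X := ((U i : X.Opens) : Scheme.{u})))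
    have h2 := (Groth.L18.Ample.isFrame_restrict_iff L (U i) _ _).1 h1
    exact ⟨_, h2.mono (show U i ≤ (U i).ι ''ᵁ ⊤ by rw [Scheme.Opens.ι_image_top])⟩
  choose σ hσ using hfr
  have hO : ∀ i, IsFrame (Coh.structureModule X) (U i) (rs (Coh.structureModule X) le_top (Groth.L21.RR.oneSec X)) :=
    fun i => IsFrame.mono (Groth.L21.RR.isFrame_oneSec (X := X)) le_top
  refine Groth.L21.Mero.nonempty_iso_of_frames U hU σ _ hσ hO fun i j W hi hj u hu => ?_
  by_cases hij : i = j
  · subst hij
    have hu1 : u = 1 := (hσ i).inj hi (by rw [one_smul]; exact hu.symm)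
    rw [hu1, one_smul]
  · haveI := Groth.L18.Ample.subsingleton_sections_bot (Coh.structureModule X) (U := W)
      (le_bot_iff.1 ((le_inf hi hj).trans (hd i j hij).le))
    exact Subsingleton.elim _ _

theorem isIso_stalkSpecializes_of_eq {X : Scheme.{u}} {x y : X} (h : x = y) :
    IsIso (X.presheaf.stalkSpecializes (specializes_of_eq h)) := by
  subst h
  rw [TopCat.Presheaf.stalkSpecializes_refl]
  infer_instance

variable {k : Type u} [Field k] [IsAlgClosed k] (p : ℕ) [Fact p.Prime] [CharP k p]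
  (halg : ∀ x : k, ∃ n : ℕ, 0 < n ∧ x ^ (p ^ n) = x)

include p halg in
/-- Numerically trivial modules on an integral normal proper scheme are torsion. -/
theorem torsion_integral {X : Scheme.{u}} [X.Over (Spec (CommRingCat.of k))]
    [IsProper (X ↘ Spec (CommRingCat.of k))] [IsIntegral X] (hX : Pi1.IsNormalScheme X) {L : X.Modules}
    (hL : NT k L) : ∃ d : ℕ, 0 < d ∧ Nonempty (CohB1.tensorPow L d ≅ Coh.structureModule X) := by
  haveI := Groth.L21.RR.isNoetherian_of_proper (X := X) k
  obtain ⟨N, X', π, j, hj, hjπ, hπ, hsurj, U, hU, hUiso⟩ :=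
    Groth.L16.Chow.exists_chow_dense (X ↘ Spec (CommRingCat.of k))
  haveI := hj; haveI := hπ; haveI := hUiso; haveI := hsurj
  have hηU : genericPoint X ∈ U :=
    ((genericPoint_spec X).mem_open_set_iff U.2).2 (by
      obtain ⟨x, hx⟩ := hU.nonempty
      exact ⟨x, trivial, hx⟩)
  obtain ⟨ξ, hξ⟩ := π.surjective (genericPoint X)
  haveI := isIntegral_pt ξ
  let W := (pt ξ).subscheme
  let z : W ⟶ X' := (pt ξ).subschemeι
  have hz : z (genericPoint W) = ξ := genericPoint_pt ξ
  let f : W ⟶ X := z ≫ π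
  haveI : IsProper f := inferInstanceAs (IsProper (z ≫ π))
  have e : f (genericPoint W) = genericPoint X := by
    show (z ≫ π) (genericPoint W) = _
    rw [Scheme.Hom.comp_apply, hz, hξ]
  have hπξ : IsIso (π.stalkMap (z (genericPoint W))) := by
    have hmem : z (genericPoint W) ∈ π ⁻¹ᵁ U := by
      show π (z (genericPoint W)) ∈ U
      rw [hz, hξ]
      exact hηU
    let q : X'.Opens := π ⁻¹ᵁ U
    haveI : IsOpenImmersion (q.ι ≫ π) := by
      rw [← morphismRestrict_ι π U]
      infer_instance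
    have h1 : π.stalkMap (q.ι ⟨_, hmem⟩) ≫ q.ι.stalkMap ⟨_, hmem⟩ = (q.ι ≫ π).stalkMap ⟨_, hmem⟩ :=
      (Scheme.Hom.stalkMap_comp q.ι π ⟨_, hmem⟩).symm
    have h2 : π.stalkMap (q.ι ⟨_, hmem⟩) = (q.ι ≫ π).stalkMap ⟨_, hmem⟩ ≫ inv (q.ι.stalkMap ⟨_, hmem⟩) := by
      rw [← h1, Category.assoc, IsIso.hom_inv_id, Category.comp_id]
    show IsIso (π.stalkMap (q.ι ⟨_, hmem⟩))
    rw [h2]
    infer_instance
  have hbij : Function.Bijective (Groth.L21.Curve.ffMap f e) := by
    constructor
    · exact (Groth.L21.Curve.ffMap f e).injective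
    · have hsurj' : Function.Surjective (f.stalkMap (genericPoint W)) := by
        rw [show f.stalkMap (genericPoint W) = π.stalkMap (z (genericPoint W)) ≫ z.stalkMap (genericPoint W) from
          Scheme.Hom.stalkMap_comp z π (genericPoint W)]
        haveI := hπξ
        exact (z.stalkMap_surjective (genericPoint W)).comp
          (ConcreteCategory.bijective_of_isIso (π.stalkMap (z (genericPoint W)))).2
      haveI := isIso_stalkSpecializes_of_eq e
      exact hsurj'.comp (ConcreteCategory.bijective_of_isIso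
        (X.presheaf.stalkSpecializes (specializes_of_eq e) : _ ⟶ _)).2
  have happ := Groth.L05.PtSeq.isIso_app_of_normal_or_iso f e hbij (fun y => Or.inl (hX y).2)
  letI : W.Over (Spec (CommRingCat.of k)) := ⟨f ≫ (X ↘ Spec (CommRingCat.of k))⟩
  haveI : IsProper (W ↘ Spec (CommRingCat.of k)) := inferInstanceAs (IsProper (f ≫ (X ↘ Spec (CommRingCat.of k))))
  have hA : ∃ A : W.Modules, CohB1.IsAmple A := by
    let r := z ≫ j
    haveI : IsImmersion r := inferInstanceAs (IsImmersion (z ≫ j))
    haveI : IsProper r := by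
      haveI : IsProper (r ≫ CohB1.ProjSpaceOver.toBase N (Spec (CommRingCat.of k))) := by
        rw [show r ≫ CohB1.ProjSpaceOver.toBase N _ = W ↘ Spec (CommRingCat.of k) by
          simp only [r, Category.assoc, hjπ]; exact (Category.assoc _ _ _).symm]
        infer_instance
      haveI : IsSeparated (CohB1.ProjSpaceOver.toBase N (Spec (CommRingCat.of k))) := by
        show IsSeparated (Limits.pullback.snd _ _)
        infer_instance
      exact IsProper.of_comp r (CohB1.ProjSpaceOver.toBase N (Spec (CommRingCat.of k)))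
    haveI : IsClosedImmersion r := IsClosedImmersion.of_isPreimmersion r r.isClosedMap.isClosed_range
    exact ⟨_, Groth.L18.Ample.isAmple_pullback_of_isAffineHom (r ≫ (Groth.L16.ProjSpace.isoOver N k).inv)
      (Groth.L22.VeryAmple.isAmple_O1 N k)⟩
  obtain ⟨d, hd, ⟨t⟩⟩ := torsion_proj p halg hA (hL.pullback f rfl)
  exact ⟨d, hd, Groth.Agent.S5683.result f (fun V => haveI := happ V; ConcreteCategory.bijective_of_isIso (f.app V))
    _ (Groth.L18.Ample.isInvertible_tensorPow hL.1 d) ⟨Groth.L18.Ample.pullPow f L d ≪≫ t⟩⟩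

include p halg in
/-- Numerically trivial modules on a normal proper scheme are torsion. -/
theorem torsion_normal {X : Scheme.{u}} [X.Over (Spec (CommRingCat.of k))]
    [IsProper (X ↘ Spec (CommRingCat.of k))] (hX : Pi1.IsNormalScheme X) {L : X.Modules}
    (hL : NT k L) : ∃ d : ℕ, 0 < d ∧ Nonempty (CohB1.tensorPow L d ≅ Coh.structureModule X) := by
  classical
  haveI := Groth.L21.RR.isNoetherian_of_proper (X := X) k
  let ι : Type u := Set.range (fun x : X => connectedComponent x)
  let U : ι → X.Opens := fun i => ⟨i.1, by obtain ⟨_, x, rfl⟩ := i; exact Groth.L04.SupportSh.isOpen_connectedComponent x⟩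
  have hcov : ∀ x : X, ∃ i, x ∈ U i := fun x => ⟨⟨_, x, rfl⟩, mem_connectedComponent⟩
  have hdis : ∀ i j, i ≠ j → U i ⊓ U j = ⊥ := by
    rintro ⟨_, x, rfl⟩ ⟨_, y, rfl⟩ hne
    refine Opens.ext (Set.eq_empty_iff_forall_notMem.2 fun w hw => hne (Subtype.ext ?_))
    exact (connectedComponent_eq hw.1).trans (connectedComponent_eq hw.2).symm
  have key : ∀ i, ∃ d : ℕ, 0 < d ∧
      Nonempty ((Scheme.Modules.pullback (U i).ι).obj (CohB1.tensorPow L d) ≅ Coh.structureModule (U i)) := by
    intro i
    let C : Scheme.{u} := U i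
    have hclosed : IsClosed (U i : Set X) := by
      obtain ⟨_, x, rfl⟩ := i
      exact isClosed_connectedComponent
    haveI : IsClosedImmersion (U i).ι := IsClosedImmersion.of_isPreimmersion _ (by
      rw [Scheme.Opens.range_ι]; exact hclosed)
    haveI : ConnectedSpace C := isConnected_iff_connectedSpace.1 (by
      obtain ⟨_, x, rfl⟩ := i
      exact isConnected_connectedComponent)
    haveI : IsLocallyNoetherian C := LocallyOfFiniteType.isLocallyNoetherian (U i).ι
    have hC : Pi1.IsNormalScheme C := fun x => by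
      let σ := (asIso ((U i).ι.stalkMap x)).commRingCatIsoToRingEquiv
      haveI := (hX ((U i).ι x)).1
      haveI := (hX ((U i).ι x)).2
      haveI : IsDomain (C.presheaf.stalk x) := σ.symm.injective.isDomain σ.symm.toRingHom
      exact ⟨inferInstance, IsIntegrallyClosed.of_equiv σ⟩
    haveI : IsIntegral C := Groth.L25.SplitSub.isIntegral_of_normal hC
    letI : C.Over (Spec (CommRingCat.of k)) := ⟨(U i).ι ≫ (X ↘ Spec (CommRingCat.of k))⟩
    haveI : IsProper (C ↘ Spec (CommRingCat.of k)) :=
      inferInstanceAs (IsProper ((U i).ι ≫ (X ↘ Spec (CommRingCat.of k))))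
    obtain ⟨d, hd, ⟨t⟩⟩ := torsion_integral p halg hC (hL.pullback (U i).ι rfl)
    exact ⟨d, hd, ⟨Groth.L18.Ample.pullPow _ L d ≪≫ t⟩⟩
  choose d hd hd' using key
  obtain ⟨s, hs⟩ := isCompact_univ.elim_finite_subcover (fun i => (U i : Set X)) (fun i => (U i).2)
    (fun x _ => Set.mem_iUnion.2 (hcov x))
  refine ⟨∏ i ∈ s, d i, Finset.prod_pos fun i _ => hd i,
    nonempty_iso_of_disjoint (fun i : {i // i ∈ s} => U i.1)
      (fun x => by
        obtain ⟨i, hi, hx⟩ := Set.mem_iUnion₂.1 (hs (Set.mem_univ x))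
        exact ⟨⟨i, hi⟩, hx⟩)
      (fun a b hab => hdis a.1 b.1 fun h => hab (Subtype.ext h)) fun i => ?_⟩
  obtain ⟨c, hc⟩ := Finset.dvd_prod_of_mem d i.2
  obtain ⟨t⟩ := hd' i.1
  rw [hc]
  exact ⟨(Scheme.Modules.pullback _).mapIso (Groth.L00.Tensor.tensorPowMul L (d i.1) c).symm ≪≫
    Groth.L18.Ample.pullPow _ _ c ≪≫ Groth.L00.Tensor.tensorPowIso t c ≪≫ Groth.L00.Tensor.tensorPowUnit _ c⟩

omit [IsAlgClosed k] in
theorem exists_pow_eq_self {E : Type u} [Field E] [CharP E p] [Algebra (ZMod p) E] {x : E}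
    (hx : IsIntegral (ZMod p) x) : ∃ n : ℕ, 0 < n ∧ x ^ (p ^ n) = x := by
  let F := IntermediateField.adjoin (ZMod p) {x}
  haveI : Module.Finite (ZMod p) F := IntermediateField.adjoin.finiteDimensional hx
  haveI : Finite F := Module.finite_of_finite (ZMod p)
  haveI := Fintype.ofFinite F
  refine ⟨Module.finrank (ZMod p) F, Module.finrank_pos, ?_⟩
  have h := FiniteField.pow_card (⟨x, IntermediateField.mem_adjoin_simple_self _ x⟩ : F)
  rw [← Nat.card_eq_fintype_card, Module.natCard_eq_pow_finrank (K := ZMod p), Nat.card_zmod] at h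
  exact congrArg (fun y : F => (y : E)) h

omit [IsAlgClosed k] in
include p halg in
/-- Numerically trivial modules on a geometrically normal proper scheme are torsion. -/
theorem torsion_geomNormal {X : Scheme.{u}} [X.Over (Spec (CommRingCat.of k))]
    [IsProper (X ↘ Spec (CommRingCat.of k))]
    (hX : Pi1.IsNormalScheme (XE k (AlgebraicClosure k) X)) {L : X.Modules}
    (hL : PicF.IsInvertible L) (h0 : Pic13.IsNumEquivZero k X L) :
    ∃ d : ℕ, 0 < d ∧ Nonempty (CohB1.tensorPow L d ≅ Coh.structureModule X) := by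
  haveI := Groth.L21.RR.isNoetherian_of_proper (X := X) k
  let E := AlgebraicClosure k
  haveI : CharP E p := charP_of_injective_algebraMap (algebraMap k E).injective p
  letI : Algebra (ZMod p) k := ZMod.algebra k p
  haveI : Algebra.IsIntegral (ZMod p) k := ⟨fun x => by
    obtain ⟨n, hn, hx⟩ := halg x
    exact ⟨Polynomial.X ^ (p ^ n) - Polynomial.X, Polynomial.monic_X_pow_sub (by
      rw [Polynomial.degree_X]
      exact_mod_cast Nat.one_lt_pow hn.ne' (Fact.out : p.Prime).one_lt), by simp [hx]⟩⟩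
  have halgE : ∀ x : E, ∃ n : ℕ, 0 < n ∧ x ^ (p ^ n) = x := fun x =>
    exists_pow_eq_self p (isIntegral_trans x (Algebra.IsIntegral.isIntegral (R := k) x))
  let g := projE k E X
  have sq : IsPullback g (XE k E X ↘ Spec (CommRingCat.of E)) (X ↘ Spec (CommRingCat.of k))
      (Spec.map (CommRingCat.ofHom (algebraMap k E))) := IsPullback.of_hasPullback _ _
  haveI := Groth.L21.RR.isNoetherian_of_proper (X := XE k E X) E
  obtain ⟨Q, hQ, ⟨e⟩⟩ := Groth.L08.Cube.exists_inverse hL
  have hNT : NT E ((Scheme.Modules.pullback g).obj L) := by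
    refine ⟨Groth.L18.Ample.isInvertible_pullback g hL, ?_⟩
    rw [numZero_iff_isNef E (Groth.L18.Ample.isInvertible_pullback g hL) (Groth.L18.Ample.isInvertible_pullback g hQ)
      (Groth.L29.DC.PullTensor.pullTensor g L Q ≪≫ (Scheme.Modules.pullback g).mapIso e ≪≫
        Groth.L29.LocFree.pullbackUnitIso g), ← isNef_XE_iff k E hL, ← isNef_XE_iff k E hQ]
    exact (numZero_iff_isNef k hL hQ e).1 h0
  obtain ⟨d, hd, ⟨t⟩⟩ := torsion_normal p halgE hX hNT
  obtain ⟨r⟩ := Groth.L21.PicExt.nonempty_iso_of_pullback g sq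
    (Groth.L16.ProperFinite.finite_HH k Groth.L16.CohClosedPush.isCoh_structure 0)
    (Groth.L18.Ample.isInvertible_tensorPow hL d) (t.symm ≪≫ (Groth.L18.Ample.pullPow g L d).symm)
  exact ⟨d, hd, ⟨r.symm⟩⟩

end Groth.L11.TorsionFp
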