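import Groth.Agent.L11.TorsionFp.Finite
import Groth.Agent.L11.TorsionFp.Model
import Mathlib.Algebra.Field.ULift
import Mathlib.Algebra.Field.ZMod

/-!
# Numerically trivial modules on projective schemes over an algebraic closure of a finite field
-/

set_option autoImplicit false
set_option linter.style.haveILetI false
set_option linter.unusedSectionVars false
set_option backward.isDefEq.respectTransparency false
set_option backward.isDefEq.respectTransparency.types false

universe u

open CategoryTheory CategoryTheory.Limits AlgebraicGeometry TopologicalSpace Opposite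

noncomputable section

namespace Groth.L11.TorsionFp

open Groth.L11.NumOrth Groth.L22.Nef Groth.L22.Inter

variable {k : Type u} [Field k] [IsAlgClosed k]

/-- Numerically trivial modules on a projective scheme are torsion when the field is algebraic over a
finite field. -/
theorem torsion_proj (p : ℕ) [Fact p.Prime] [CharP k p] (halg : ∀ x : k, ∃ n : ℕ, 0 < n ∧ x ^ (p ^ n) = x)
    {W : Scheme.{u}} [W.Over (Spec (CommRingCat.of k))] [IsProper (W ↘ Spec (CommRingCat.of k))]
    (hA : ∃ A : W.Modules, CohB1.IsAmple A) {L : W.Modules} (hL : NT k L) :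
    ∃ d : ℕ, 0 < d ∧ Nonempty (CohB1.tensorPow L d ≅ Coh.structureModule W) := by
  have hint : ∀ x : k, IsIntegral ℤ x := fun x => by
    obtain ⟨n, hn, hx⟩ := halg x
    exact ⟨Polynomial.X ^ (p ^ n) - Polynomial.X, Polynomial.monic_X_pow_sub (by
      rw [Polynomial.degree_X]
      exact_mod_cast Nat.one_lt_pow hn.ne' (Fact.out : p.Prime).one_lt), by simp [hx]⟩
  let k₀ : Type u := ULift.{u} (ZMod p)
  letI : Algebra k₀ k := ((ZMod.castHom (dvd_refl p) k).comp ULift.ringEquiv.toRingHom).toAlgebra
  obtain ⟨K, _, _, _, W₀, _, _, g, hA₀, sq⟩ := exists_scheme_model hint k₀ hA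
  obtain ⟨K', _, _, _, W', _, _, g', hA', sq', L', hL', ⟨eL⟩⟩ := exists_module_model hint sq hA₀ hL.1
  let e : W ≅ XE K' k W' := sq'.isoPullback
  have he : e.inv ≫ g' = projE K' k W' := sq'.isoPullback_inv_fst
  have hNT : NT k ((Scheme.Modules.pullback (projE K' k W')).obj L') :=
    nt_of_iso ((Scheme.Modules.pullback e.inv).mapIso eL.symm ≪≫ (Scheme.Modules.pullbackComp e.inv g').app L' ≪≫
      (Scheme.Modules.pullbackCongr he).app L') (hL.pullback e.inv sq'.isoPullback_inv_snd)
  obtain ⟨d, hd, ⟨t⟩⟩ := torsion_finite K' k hA' hL' hNT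
  exact ⟨d, hd, ⟨Groth.L00.Tensor.tensorPowIso eL.symm d ≪≫ (Groth.L18.Ample.pullPow g' L' d).symm ≪≫
    (Scheme.Modules.pullback g').mapIso t ≪≫ Groth.L29.LocFree.pullbackUnitIso g'⟩⟩

end Groth.L11.TorsionFp
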