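import Groth.Agent.L12.GenusZero.Mult
import Groth.Agent.L18.AmpleGG

/-!
# Modules determined by a finite table of products of sections
-/

set_option autoImplicit false
set_option linter.style.haveILetI false
set_option linter.unusedSectionVars false
set_option backward.isDefEq.respectTransparency false
set_option backward.isDefEq.respectTransparency.types false

universe u

open CategoryTheory CategoryTheory.Limits AlgebraicGeometry TopologicalSpace Opposite

noncomputable section

namespace Groth.L11.TorsionFp

attribute [local instance] CategoryTheory.Abelian.hasFiniteBiproducts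

open Groth.L21.RR (st st_comp mulS)
open Groth.L12.GenusZero (injective_st_mulS_of_surjective)

variable {X : Scheme.{u}}

/-- Surjectivity of sections at every point. -/
def Gen {M : X.Modules} {ι : Type u} (φ : ι → (Coh.structureModule X ⟶ M)) : Prop :=
  ∀ x, ∃ a, Function.Surjective (st (φ a) x)

open Groth.L21.RR (exists_coeff_secOf surjective_st_iff bijective_germ_frame) in
theorem surjective_st_of_mem {M : X.Modules} (hM : PicF.IsInvertible M) (φ : Coh.structureModule X ⟶ M) {x : X}
    (h : x ∈ CohB1.genLocus M φ) : Function.Surjective (st φ x) := by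
  obtain ⟨W, ε, hx, hε⟩ := Groth.L18.Frame.exists_frame hM x
  obtain ⟨b, hb, hb'⟩ := exists_coeff_secOf hε φ
  rw [surjective_st_iff (bijective_germ_frame hε hx) φ (hb' x hx), ← X.mem_basicOpen b x hx,
    ← Groth.L18.GenLoc.genLocus_inf_eq φ hε hb]
  exact ⟨h, hx⟩

theorem gen_of_gg {M : X.Modules} (hM : PicF.IsInvertible M) (h : Curv2.IsGloballyGenerated M) {ι : Type u}
    (φ : ι → (Coh.structureModule X ⟶ M)) (hφ : Function.Surjective φ) : Gen φ := fun x => by
  obtain ⟨s, hs⟩ := Groth.L18.Ample.exists_genLocus_mem_of_gg hM h x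
  obtain ⟨a, rfl⟩ := hφ s
  exact ⟨a, surjective_st_of_mem hM _ hs⟩

/-- The morphism attached to a table. -/
def tableHom (P : X.Modules) {ι κ : Type u} [Finite ι] [Finite κ]
    (T : ι → κ → (Coh.structureModule X ⟶ P)) :
    (⨁ fun _ : ι => Coh.structureModule X) ⟶ ⨁ fun _ : κ => P :=
  biproduct.desc fun a => biproduct.lift fun b => T a b

/-- A module generated by sections, mapped into copies of `P` by generated sections of a partner, is
the image of the table of their products. -/
theorem exists_iso_image {M N P : X.Modules} (hM : PicF.IsInvertible M) (hN : PicF.IsInvertible N)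
    (c : CohB1.tensorMod M N ≅ P) {ι κ : Type u} [Finite ι] [Finite κ]
    (φ : ι → (Coh.structureModule X ⟶ M)) (hφ : Gen φ)
    (ψ : κ → (Coh.structureModule X ⟶ N)) (hψ : Gen ψ) :
    Nonempty (M ≅ image (tableHom P fun a b => φ a ≫ mulS M (ψ b) ≫ c.hom)) := by
  let p : (⨁ fun _ : ι => Coh.structureModule X) ⟶ M := biproduct.desc φ
  let i : M ⟶ ⨁ fun _ : κ => P := biproduct.lift fun b => mulS M (ψ b) ≫ c.hom
  have hp : Epi p := (Groth.L21.Mod.epi_iff_stalk_surjective _).2 fun x v => by
    obtain ⟨a, ha⟩ := hφ x
    obtain ⟨w, hw⟩ := ha v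
    refine ⟨st (biproduct.ι (fun _ : ι => Coh.structureModule X) a) x w, ?_⟩
    change st p x _ = v
    rw [← st_comp, biproduct.ι_desc]
    exact hw
  have hi : Mono i := (Groth.L21.Mod.mono_iff_stalk_injective _).2 fun x v w hvw => by
    obtain ⟨b, hb⟩ := hψ x
    refine injective_st_mulS_of_surjective hM hN hb ?_
    have hc : Function.Injective (st c.hom x) := fun a a' h => by
      have := congrArg (st c.inv x) h
      rw [← st_comp, ← st_comp, c.hom_inv_id] at this
      simpa [st] using! this
    refine hc ?_
    rw [← st_comp, ← st_comp, ← biproduct.lift_π (fun b => mulS M (ψ b) ≫ c.hom) b, st_comp, st_comp]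
    exact congrArg (st (biproduct.π (fun _ : κ => P) b) x) hvw
  haveI := hp
  haveI := hi
  have hf : p ≫ i = tableHom P fun a b => φ a ≫ mulS M (ψ b) ≫ c.hom := biproduct.hom_ext' _ _ fun a =>
    biproduct.hom_ext _ _ fun b => by
      simp [p, i, tableHom]
  haveI : StrongEpi p := strongEpi_of_epi p
  exact ⟨image.isoStrongEpiMono p i hf⟩

end Groth.L11.TorsionFp
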